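import Cfsg.Agent.H675.RG.TwoComp

/-!
# S3509: mixed covers and a quasisimple normal subgroup of the centraliser of the `p'`-members (helper675)

* `commutes_of_central` : `M` perfect, `[z, M]` central in `M`: `z` commutes with `M`;
* `le_or_comm` : `K`, `M` normal in `C₀`, `M` quasisimple: `M ≤ K` or `K` commutes with `M`;
* `quasi_comp` : `M ⊴ C₀` quasisimple (alternating allowed), `v, y ∈ M` commuting, `v` a long root element, `y` of prime order
  `≠ p`: no element `u ≠ 1` of `C₀` covers together with the `w k`.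
-/

set_option autoImplicit false
open Cfsg

namespace Cfsg.Agent.H675.RG

open MulAction Cfsg.Agent.H106.RC Cfsg.Agent.H380.RC Cfsg.Agent.H873.RG Cfsg.Agent.H368.RG
open scoped commutatorElement

/-- `M` perfect, `[z, M]` central in `M` -/
theorem commutes_of_central {G : Type*} [Group G] {M : Subgroup G} (hperf : ⁅M, M⁆ = M) {z : G}
    (hzM : ∀ m ∈ M, z * m * z⁻¹ ∈ M) (hz : ∀ m ∈ M, ∀ n ∈ M, n * (z * m * z⁻¹ * m⁻¹) = z * m * z⁻¹ * m⁻¹ * n) :
    ∀ m ∈ M, z * m = m * z := by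
  -- the elements commuting with `z` contain the commutators
  have h1 : ⁅M, M⁆ ≤ Subgroup.centralizer {z} := by
    rw [Subgroup.commutator_le]
    intro a ha b hb
    rw [Subgroup.mem_centralizer_singleton_iff]
    -- `z a z⁻¹ = ca a`, `z b z⁻¹ = cb b`
    obtain ⟨ca, hca⟩ : ∃ c, c = z * a * z⁻¹ * a⁻¹ := ⟨_, rfl⟩
    obtain ⟨cb, hcb⟩ : ∃ c, c = z * b * z⁻¹ * b⁻¹ := ⟨_, rfl⟩
    have ea : z * a * z⁻¹ = ca * a := by rw [hca]; group
    have eb : z * b * z⁻¹ = cb * b := by rw [hcb]; group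
    have za : ∀ n ∈ M, n * ca = ca * n := fun n hn => by rw [hca]; exact hz a ha n hn
    have zb : ∀ n ∈ M, n * cb = cb * n := fun n hn => by rw [hcb]; exact hz b hb n hn
    have hcaM : ca ∈ M := by rw [hca]; exact M.mul_mem (hzM a ha) (M.inv_mem ha)
    have hcbM : cb ∈ M := by rw [hcb]; exact M.mul_mem (hzM b hb) (M.inv_mem hb)
    have key : z * ⁅a, b⁆ * z⁻¹ = ⁅a, b⁆ := by
      have e1 : z * ⁅a, b⁆ * z⁻¹ = (z * a * z⁻¹) * (z * b * z⁻¹) * (z * a * z⁻¹)⁻¹ * (z * b * z⁻¹)⁻¹ := by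
        rw [commutatorElement_def]; group
      rw [e1, ea, eb, commutatorElement_def]
      have c1 : ca * a * (cb * b) = cb * (ca * (a * b)) := by
        calc ca * a * (cb * b) = ca * (a * cb) * b := by group
          _ = ca * (cb * a) * b := by rw [zb a ha]
          _ = (ca * cb) * (a * b) := by group
          _ = (cb * ca) * (a * b) := by rw [zb ca hcaM]
          _ = cb * (ca * (a * b)) := by group
      have c2 : ca * a * (cb * b) * (ca * a)⁻¹ = cb * (a * b * a⁻¹) := by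
        rw [c1]
        calc cb * (ca * (a * b)) * (ca * a)⁻¹ = cb * (ca * (a * b) * a⁻¹ * ca⁻¹) := by group
          _ = cb * (ca * (a * b * a⁻¹) * ca⁻¹) := by group
          _ = cb * ((a * b * a⁻¹) * ca * ca⁻¹) := by
            rw [← za (a * b * a⁻¹) (M.mul_mem (M.mul_mem ha hb) (M.inv_mem ha))]
          _ = cb * (a * b * a⁻¹) := by group
      rw [c2]
      calc cb * (a * b * a⁻¹) * (cb * b)⁻¹ = cb * ((a * b * a⁻¹ * b⁻¹) * cb⁻¹) := by group
        _ = cb * (cb⁻¹ * (a * b * a⁻¹ * b⁻¹)) := by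
          have h2 : ∀ n ∈ M, n * cb⁻¹ = cb⁻¹ * n := fun n hn => by
            have h3 := zb n hn
            calc n * cb⁻¹ = cb⁻¹ * (cb * n) * cb⁻¹ := by group
              _ = cb⁻¹ * (n * cb) * cb⁻¹ := by rw [h3]
              _ = cb⁻¹ * n := by group
          rw [h2 _ (M.mul_mem (M.mul_mem (M.mul_mem ha hb) (M.inv_mem ha)) (M.inv_mem hb))]
        _ = a * b * a⁻¹ * b⁻¹ := by group
    calc ⁅a, b⁆ * z = z * ⁅a, b⁆ * z⁻¹ * z := by rw [key]
      _ = z * ⁅a, b⁆ := by group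
  intro m hm
  rw [← hperf] at hm
  exact (Subgroup.mem_centralizer_singleton_iff.1 (h1 hm)).symm

/-- `K`, `M` normal in `C₀`, `M` quasisimple -/
theorem le_or_comm {G : Type*} [Group G] {C₀ K M : Subgroup G} (hMC : M ≤ C₀) (hKC : K ≤ C₀)
    (hMn : ∀ c ∈ C₀, ∀ m ∈ M, c * m * c⁻¹ ∈ M) (hKn : ∀ c ∈ C₀, ∀ m ∈ K, c * m * c⁻¹ ∈ K)
    (hperf : ⁅M, M⁆ = M) (hq : ∀ N : Subgroup G, N ≤ M → (∀ m ∈ M, ∀ n ∈ N, m * n * m⁻¹ ∈ N) →
      N = M ∨ ∀ m ∈ M, ∀ n ∈ N, m * n = n * m) : M ≤ K ∨ ∀ z ∈ K, ∀ m ∈ M, z * m = m * z := by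
  rcases hq (K ⊓ M) inf_le_right (fun m hm n hn => ⟨hKn m (hMC hm) n hn.1, hMn m (hMC hm) n hn.2⟩) with h | h
  · exact Or.inl (by rw [← h]; exact inf_le_left)
  · right
    intro z hz
    refine commutes_of_central hperf (hMn z (hKC hz)) fun m hm n hn => ?_
    refine h n hn _ ⟨?_, M.mul_mem (hMn z (hKC hz) m hm) (M.inv_mem hm)⟩
    have e : z * m * z⁻¹ * m⁻¹ = z * (m * z⁻¹ * m⁻¹) := by group
    rw [e]
    exact K.mul_mem hz (hKn m (hMC hm) _ (K.inv_mem hz))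

variable {G Ω : Type} [Group G] [Finite G] [MulAction G Ω] {N D : Subgroup G}

/-- **A quasisimple normal subgroup with a long root element and a `p'`-element commuting.** -/
theorem quasi_comp {κ : Type} [Finite κ] [Nonempty Ω] (hE : Env G Ω N) {p : ℕ} {V : G → Prop} {U : G → Subgroup G}
    (hL : LRData D p V U) {w : κ → G} (hw : ∀ k, PPr D p (w k)) (hc : ∀ k l, w k * w l = w l * w k)
    {C₀ : Subgroup G} (hCD : C₀ ≤ D) (hCw : ∀ c ∈ C₀, ∀ k, c * w k = w k * c) (hB : pCore p ↥C₀ = ⊥)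
    {M : Subgroup G} (hMC : M ≤ C₀) (hMn : ∀ c ∈ C₀, ∀ m ∈ M, c * m * c⁻¹ ∈ M) (hperf : ⁅M, M⁆ = M)
    (hq : ∀ N' : Subgroup G, N' ≤ M → (∀ m ∈ M, ∀ n ∈ N', m * n * m⁻¹ ∈ N') →
      N' = M ∨ ∀ m ∈ M, ∀ n ∈ N', m * n = n * m)
    {v y : G} (hvM : v ∈ M) (hv : V v) (hyM : y ∈ M) (hy : PPr D p y) (hyv : y * v = v * y)
    {u : G} (hu : u ∈ C₀) (hu1 : u ≠ 1) (hcov : ∀ ω : Ω, u • ω = ω ∨ ∃ k, w k • ω = ω) : False := by
  have hfix : ∀ z ∈ nclo C₀ u, ∀ ω : Ω, (∃ k, w k • ω = ω) ∨ z • ω = ω := by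
    intro z hz ω
    refine nclo_fix (F := C₀) (u := u) (P := fun ω => ∃ k, w k • ω = ω) ?_ (fun ω => (hcov ω).symm) hz ω
    rintro c hc ω ⟨k, h⟩
    refine ⟨k, ?_⟩
    rw [← mul_smul, ← hCw c hc k, mul_smul] at h
    exact MulAction.injective c h
  have hKle : nclo C₀ u ≤ C₀ := nclo_le hu
  rcases le_or_comm hMC hKle hMn (fun c hc z hz => nclo_conj hc hz) hperf hq with h | h
  · exact kill_opt hE hL hv hw hc hy (hCw y (hMC hyM)) (fun k => (hCw v (hMC hvM) k).symm) hyv (hfix y (h hyM))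
  · obtain ⟨y', hyK, hy1, t, ht, htp, hyt⟩ := exists_y (C := C₀) (F := nclo C₀ u) hKle hB
      (fun c hc z hz => nclo_conj hc hz) (nclo_self _ _) hu1
    have hyK' : y' ∈ nclo C₀ u := nclo_le (nclo_self _ _) hyK
    exact kill_opt hE hL hv hw hc ⟨hCD (hKle hyK'), hy1, t, ht, htp, hyt⟩ (hCw y' (hKle hyK'))
      (fun k => (hCw v (hMC hvM) k).symm) (h y' hyK' v hvM) (hfix y' hyK')

end Cfsg.Agent.H675.RG
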