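import Cfsg.Agent.H368.RG.Engine2

/-!
# S3509: mixed covers, two commuting normal pieces with long root elements (helper675)

* `two_comp` : `w k` commuting `p'`-elements of `D`, `C₀ ≤ D` commutes with all `w k`, `O_p(C₀) = 1`; `v₁, v₂ ∈ C₀` long
  root elements, `v₁` commutes with all `C₀`-conjugates of `v₂`: no element `u ≠ 1` of `C₀` covers together with the
  `w k`.
-/

set_option autoImplicit false
open Cfsg

namespace Cfsg.Agent.H675.RG

open MulAction Cfsg.Agent.H106.RC Cfsg.Agent.H380.RC Cfsg.Agent.H873.RG Cfsg.Agent.H368.RG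

variable {G Ω : Type} [Group G] [Finite G] [MulAction G Ω] {N D : Subgroup G}

/-- long root element, `p'`-elements `y`, `w k` commuting with it -/
theorem kill_opt {κ : Type} [Finite κ] [Nonempty Ω] (hE : Env G Ω N) {p : ℕ} {V : G → Prop} {U : G → Subgroup G}
    (hL : LRData D p V U) {v : G} (hv : V v) {w : κ → G} (hw : ∀ k, PPr D p (w k)) (hc : ∀ k l, w k * w l = w l * w k)
    {y : G} (hy : PPr D p y) (hyw : ∀ k, y * w k = w k * y) (hwv : ∀ k, w k * v = v * w k) (hyv : y * v = v * y)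
    (hcov : ∀ ω : Ω, (∃ k, w k • ω = ω) ∨ y • ω = ω) : False := by
  choose r hr using fun k => (hw k).2.2
  obtain ⟨hyD, hy1, t, ht, htp, hyt⟩ := hy
  refine kill_lr hE hL hv (ι := Option κ) (x := fun o => o.elim y w) (r := fun o => o.elim t r) ?_ ?_ ?_ ?_ ?_ ?_ ?_ ?_
  · rintro (_ | k)
    exacts [hyD, (hw k).1]
  · rintro (_ | k)
    exacts [hy1, (hw k).2.1]
  · rintro (_ | k)
    exacts [ht, (hr k).1]
  · rintro (_ | k)
    exacts [htp, (hr k).2.1]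
  · rintro (_ | k)
    exacts [hyt, (hr k).2.2]
  · rintro (_ | k) (_ | l)
    exacts [rfl, hyw l, (hyw k).symm, hc k l]
  · rintro (_ | k)
    exacts [hyv, hwv k]
  · intro ω
    rcases hcov ω with ⟨k, hk⟩ | h
    · exact Or.inr ⟨some k, hk⟩
    · exact Or.inr ⟨none, h⟩

/-- **Two commuting normal pieces with long root elements.** -/
theorem two_comp {κ : Type} [Finite κ] [Nonempty Ω] (hE : Env G Ω N) {p : ℕ} {V : G → Prop} {U : G → Subgroup G}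
    (hL : LRData D p V U) {w : κ → G} (hw : ∀ k, PPr D p (w k)) (hc : ∀ k l, w k * w l = w l * w k)
    {C₀ : Subgroup G} (hCD : C₀ ≤ D) (hCw : ∀ c ∈ C₀, ∀ k, c * w k = w k * c) (hB : pCore p ↥C₀ = ⊥)
    {v₁ v₂ : G} (h1 : v₁ ∈ C₀) (h2 : v₂ ∈ C₀) (hv1 : V v₁) (hv2 : V v₂)
    (h12 : ∀ g ∈ C₀, v₁ * (g * v₂ * g⁻¹) = (g * v₂ * g⁻¹) * v₁) {u : G} (hu : u ∈ C₀) (hu1 : u ≠ 1)
    (hcov : ∀ ω : Ω, u • ω = ω ∨ ∃ k, w k • ω = ω) : False := by
  have hfix : ∀ z ∈ nclo C₀ u, ∀ ω : Ω, (∃ k, w k • ω = ω) ∨ z • ω = ω := by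
    intro z hz ω
    refine nclo_fix (F := C₀) (u := u) (P := fun ω => ∃ k, w k • ω = ω) ?_ (fun ω => (hcov ω).symm) hz ω
    rintro c hc ω ⟨k, h⟩
    refine ⟨k, ?_⟩
    rw [← mul_smul, ← hCw c hc k, mul_smul] at h
    exact MulAction.injective c h
  have hM : nclo C₀ v₂ ≤ Subgroup.centralizer {v₁} := by
    rw [nclo, Subgroup.closure_le]
    rintro _ ⟨g, hg, rfl⟩
    exact Subgroup.mem_centralizer_singleton_iff.2 (h12 g hg).symm
  have hKle : nclo C₀ u ≤ C₀ := nclo_le hu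
  by_cases hI : nclo C₀ u ⊓ nclo C₀ v₂ = ⊥
  · have hcen : ∀ z ∈ nclo C₀ u, z * v₂ = v₂ * z := by
      intro z hz
      have e1 : z * v₂ * z⁻¹ * v₂⁻¹ ∈ nclo C₀ u ⊓ nclo C₀ v₂ := by
        refine ⟨?_, ?_⟩
        · have e2 : z * v₂ * z⁻¹ * v₂⁻¹ = z * (v₂ * z⁻¹ * v₂⁻¹) := by group
          rw [e2]
          exact (nclo C₀ u).mul_mem hz (nclo_conj h2 ((nclo C₀ u).inv_mem hz))
        · exact (nclo C₀ v₂).mul_mem (nclo_conj (hKle hz) (nclo_self _ _)) ((nclo C₀ v₂).inv_mem (nclo_self _ _))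
      rw [hI, Subgroup.mem_bot] at e1
      rw [mul_inv_eq_one, mul_inv_eq_iff_eq_mul] at e1
      exact e1
    obtain ⟨y, hyK, hy1, t, ht, htp, hyt⟩ := exists_y (C := C₀) (F := nclo C₀ u) hKle hB
      (fun c hc z hz => nclo_conj hc hz) (nclo_self _ _) hu1
    have hyK' : y ∈ nclo C₀ u := nclo_le (nclo_self _ _) hyK
    exact kill_opt hE hL hv2 hw hc ⟨hCD (hKle hyK'), hy1, t, ht, htp, hyt⟩ (hCw y (hKle hyK'))
      (fun k => (hCw v₂ h2 k).symm) (hcen y hyK') (hfix y hyK')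
  · obtain ⟨z, hz1⟩ := Subgroup.ne_bot_iff_exists_ne_one.1 hI
    obtain ⟨y, hyK, hy1, t, ht, htp, hyt⟩ := exists_y (C := C₀) (F := nclo C₀ u ⊓ nclo C₀ v₂)
      (inf_le_left.trans hKle) hB (fun c hc z hz => ⟨nclo_conj hc hz.1, nclo_conj hc hz.2⟩) z.2
      (fun h => hz1 (Subtype.ext h))
    have hyK' : y ∈ nclo C₀ u ⊓ nclo C₀ v₂ := nclo_le z.2 hyK
    exact kill_opt hE hL hv1 hw hc ⟨hCD (hKle hyK'.1), hy1, t, ht, htp, hyt⟩ (hCw y (hKle hyK'.1))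
      (fun k => (hCw v₁ h1 k).symm) (Subgroup.mem_centralizer_singleton_iff.1 (hM hyK'.2)) (hfix y hyK'.1)

end Cfsg.Agent.H675.RG
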